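import Mathlib.CategoryTheory.Monoidal.Functor
import Mathlib.Tactic.CategoryTheory.Monoidal.Basic

/-!
Base change of internal homs against a projection formula map.
-/

set_option autoImplicit false
universe v₁ v₂ u₁ u₂

namespace Groth.Agent.DTenMon

open CategoryTheory MonoidalCategory Functor.LaxMonoidal

variable {C : Type u₁} [Category.{v₁} C] [MonoidalCategory C] {E : Type u₂} [Category.{v₂} E]
  [MonoidalCategory E] {F : C ⥤ E} [F.Monoidal] {G : E ⥤ C} [G.LaxMonoidal] (adj : F ⊣ G) [adj.IsMonoidal]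

/-- left projection formula map at the unit -/
def projUnit (X : C) : G.obj (𝟙_ E) ⊗ X ⟶ G.obj (F.obj X) :=
  G.obj (𝟙_ E) ◁ adj.unit.app X ≫ μ G (𝟙_ E) (F.obj X) ≫ G.map (λ_ (F.obj X)).hom

lemma projUnit_tensor (X K : C) :
    projUnit adj X ▷ K ≫ G.obj (F.obj X) ◁ adj.unit.app K ≫ μ G (F.obj X) (F.obj K) ≫
        G.map (μ F X K) =
      (α_ _ _ _).hom ≫ projUnit adj (X ⊗ K) := by
  have h : (adj.unit.app X ⊗ₘ adj.unit.app K) ≫ μ G (F.obj X) (F.obj K) ≫ G.map (μ F X K) =
      adj.unit.app (X ⊗ K) := by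
    rw [← reassoc_of% (adj.unit_app_tensor_comp_map_δ X K), ← G.map_comp, Functor.Monoidal.δ_μ,
      CategoryTheory.Functor.map_id]
    exact Category.comp_id _
  rw [projUnit, projUnit, ← h]
  simp only [comp_whiskerRight, Category.assoc, MonoidalCategory.whiskerLeft_comp,
    MonoidalCategory.tensorHom_def, Functor.comp_obj, Functor.id_obj]
  rw [μ_natural_right_assoc, ← G.map_comp, leftUnitor_naturality, G.map_comp, ← whisker_exchange_assoc,
    μ_natural_left_assoc, leftUnitor_whiskerRight, G.map_comp, Category.assoc, ← whisker_exchange_assoc,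
    associativity_assoc,
    associator_naturality_right_assoc, associator_naturality_middle_assoc]

omit [F.Monoidal] [adj.IsMonoidal] in
lemma projUnit_natural {X Y : C} (f : X ⟶ Y) :
    G.obj (𝟙_ E) ◁ f ≫ projUnit adj Y = projUnit adj X ≫ G.map (F.map f) := by
  have h : f ≫ adj.unit.app Y = adj.unit.app X ≫ G.map (F.map f) := adj.unit.naturality f
  rw [projUnit, projUnit, ← MonoidalCategory.whiskerLeft_comp_assoc, h]
  simp only [MonoidalCategory.whiskerLeft_comp, Category.assoc]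
  rw [μ_natural_right_assoc, ← G.map_comp, ← G.map_comp, leftUnitor_naturality]

lemma projUnit_bc (X K M : C) (e : X ⊗ K ⟶ M) {Z : E} (bc : F.obj X ⟶ Z) (e' : Z ⊗ F.obj K ⟶ F.obj M)
    (h : bc ▷ F.obj K ≫ e' = μ F X K ≫ F.map e) :
    (projUnit adj X ≫ G.map bc) ▷ K ≫ G.obj Z ◁ adj.unit.app K ≫ μ G Z (F.obj K) ≫ G.map e' =
      (α_ _ _ _).hom ≫ G.obj (𝟙_ E) ◁ e ≫ projUnit adj M := by
  have h1 : G.map bc ▷ K ≫ G.obj Z ◁ adj.unit.app K =
      G.obj (F.obj X) ◁ adj.unit.app K ≫ G.map bc ▷ G.obj (F.obj K) := (whisker_exchange _ _).symm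
  rw [comp_whiskerRight, Category.assoc, reassoc_of% h1, μ_natural_left_assoc, ← G.map_comp, h, G.map_comp,
    reassoc_of% (projUnit_tensor adj X K), projUnit_natural]

end Groth.Agent.DTenMon
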