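import Groth.Agent.DTenMon.Proj
import Groth.Agent.DTenMon.BCFormal
import Groth.Agent.DTenLib.Perfect

/-!
Base change of `RHom` through the evaluation map.
-/

set_option autoImplicit false
set_option linter.style.haveILetI false
set_option backward.isDefEq.respectTransparency false
set_option backward.isDefEq.respectTransparency.types false
universe u

namespace Groth.Agent.DTenMon

open CategoryTheory Limits MonoidalCategory HomologicalComplex DTenLib

attribute [local instance] HasDerivedCategory.standard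
attribute [local instance] monoidalD lBaseMonoidal restrictLax

variable {R A : Type u} [CommRing R] [CommRing A] (φ : R →+* A)

lemma projIso_hom (N : ModuleCat.{u} A) (K : ModuleCat.{u} R) :
    (KFlat.projIso φ N K).hom =
      (DTen.resM φ).obj N ◁ (ModuleCat.extendRestrictScalarsAdj.{u, u, u} φ).unit.app K ≫
        DTen.resTen₀app φ N ((DTen.extM φ).obj K) :=
  ModuleCat.MonoidalCategory.tensor_ext fun _ _ => rfl

lemma projTotIso_hom (N : DRing.Cx A) (K : DRing.Cx R) :
    (DTen.resCx φ).obj N ◁ (DTen.unitCx φ).app K ≫ DTen.resTenCx φ N ((DTen.extCx φ).obj K) =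
      (KFlat.projTotIso φ N K).hom := by
  refine hom_ext _ _ fun n => mapBifunctor.hom_ext fun p q h => ?_
  refine ((Category.assoc _ _ _).symm.trans ?_).trans
    (KFlat.ι_mapTensX (ModuleCat.restrictScalars φ) (𝟭 _) (𝟭 _) (ModuleCat.extendScalars.{u, u, u} φ)
      (ModuleCat.restrictScalars φ) (curriedTensor (ModuleCat.{u} A)) (curriedTensor (ModuleCat.{u} R))
      (KFlat.projIso φ) N K n p q h).symm
  rw [Category.assoc]
  erw [PreDual.ι_whiskerLeft_f_assoc ((DTen.resCx φ).obj N) ((DTen.unitCx φ).app K) p q n h,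
    DTen.ι_resTenCx φ N ((DTen.extCx φ).obj K) p q n h]
  rw [projIso_hom, Category.assoc]
  rfl

variable [DTen.HasLTen R] [DTen.HasLTen A] [DTen.HasLTen₃ R] [DTen.HasLTen₃ A]
  [DTen.IsSymMonoidal R] [DTen.IsSymMonoidal A] [DTen.HasLBase φ] [DTen.HasResTen φ] [DTen.ResLegIso φ]

omit [DTen.HasLTen₃ R] [DTen.HasLTen₃ A] [DTen.IsSymMonoidal R] [DTen.IsSymMonoidal A] in
lemma projPF_Q (n : DRing.Cx A) (k : DRing.Cx R) :
    DTen.projPF φ (DerivedCategory.Q.obj n) (DerivedCategory.Q.obj k) ≫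
        (DRing.restrictD φ).map
          ((DTen.LTen₂ A).map (Prod.mkHom (𝟙 (DerivedCategory.Q.obj n)) ((DTen.baseCmp φ).app k)) ≫
            (DTen.ε A).app (n, (DTen.extCx φ).obj k)) ≫
        (DTen.resFactors φ).hom.app (n ⊗ (DTen.extCx φ).obj k) =
      (DTen.LTen₂ R).map (Prod.mkHom ((DTen.resFactors φ).hom.app n) (𝟙 (DerivedCategory.Q.obj k))) ≫
        (DTen.ε R).app ((DTen.resCx φ).obj n, k) ≫ DerivedCategory.Q.map (KFlat.projTotIso φ n k).hom := by
  rw [← projTotIso_hom, DTen.projPF]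
  have e1 := (DTen.resPF φ).naturality (Prod.mkHom (𝟙 (DerivedCategory.Q.obj n)) ((DTen.baseCmp φ).app k))
  have e2 := DTen.resPF_fac φ (n, (DTen.extCx φ).obj k)
  have e3 := (DTen.ε R).naturality (Prod.mkHom (𝟙 ((DTen.resCx φ).obj n)) ((DTen.unitCx φ).app k))
  dsimp [DTen.resβA, DTen.resβB] at e1 e2 e3 ⊢
  simp only [Functor.map_comp, Category.assoc]
  rw [← reassoc_of% e1, e2, ← Functor.map_comp_assoc, ← Functor.map_comp_assoc]
  simp only [prod_comp, Prod.mkHom, CategoryTheory.Functor.map_id, Category.id_comp] at e3 ⊢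
  rw [id_whiskerRight, Category.id_comp] at e3
  rw [← reassoc_of% e3, ← Functor.map_comp_assoc]
  congr 2
  simp only [prod_comp, Category.comp_id]
  refine Prod.ext rfl ?_
  have hb := DTen.baseCmp_fac φ k
  dsimp [DTen.baseγ] at hb
  simp only [Category.assoc, Category.id_comp]
  rw [reassoc_of% hb]
  simp

theorem isIso_projPF (E : Dual.D A) (K : Dual.D R) : IsIso (DTen.projPF φ E K) := by
  obtain ⟨k, hk, ⟨eK⟩⟩ := exists_kFlat_rep K
  obtain ⟨n, hn, ⟨eE⟩⟩ := exists_kFlat_rep E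
  have h : IsIso (DTen.projPF φ (DerivedCategory.Q.obj n) (DerivedCategory.Q.obj k)) := by
    have := isIso_baseCmp φ hk
    have := isIso_ε_left hn ((DTen.extCx φ).obj k)
    have := isIso_ε_right ((DTen.resCx φ).obj n) hk
    have h1 : IsIso (Prod.mkHom (𝟙 (DerivedCategory.Q.obj n)) ((DTen.baseCmp φ).app k)) :=
      (Iso.prod (Iso.refl _) (asIso ((DTen.baseCmp φ).app k))).isIso_hom
    have h2 : IsIso (Prod.mkHom ((DTen.resFactors φ).hom.app n) (𝟙 (DerivedCategory.Q.obj k))) :=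
      (Iso.prod ((DTen.resFactors φ).app n) (Iso.refl _)).isIso_hom
    exact isIso_of_comp_eq (projPF_Q φ n k)
      (IsIso.comp_isIso' (@Functor.map_isIso _ _ _ _ _ _ (DRing.restrictD φ) _
        (IsIso.comp_isIso' (@Functor.map_isIso _ _ _ _ _ _ (DTen.LTen₂ A) _ h1) inferInstance)) inferInstance)
      (IsIso.comp_isIso' (@Functor.map_isIso _ _ _ _ _ _ (DTen.LTen₂ R) _ h2)
        (IsIso.comp_isIso' inferInstance inferInstance))
  have e : ((DRing.restrictD φ).map eE.hom ⊗ₘ eK.hom) ≫ DTen.projPF φ E K =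
      DTen.projPF φ (DerivedCategory.Q.obj n) (DerivedCategory.Q.obj k) ≫
        (DRing.restrictD φ).map (eE.hom ⊗ₘ (DTen.LBase φ).map eK.hom) := by
    have hp : ∀ (E : Dual.D A) (K : Dual.D R), DTen.projPF φ E K =
        (DRing.restrictD φ).obj E ◁ (DTen.baseAdj φ).unit.app K ≫
          Functor.LaxMonoidal.μ (DRing.restrictD φ) E ((DTen.LBase φ).obj K) :=
      fun E K => by rw [μ_restrict]; rfl
    have hn : eK.hom ≫ (DTen.baseAdj φ).unit.app K =
        (DTen.baseAdj φ).unit.app _ ≫ (DRing.restrictD φ).map ((DTen.LBase φ).map eK.hom) :=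
      (DTen.baseAdj φ).unit.naturality eK.hom
    rw [hp, hp, MonoidalCategory.tensorHom_def, Category.assoc, Category.assoc, ← MonoidalCategory.whiskerLeft_comp_assoc, hn,
      MonoidalCategory.whiskerLeft_comp_assoc, ← whisker_exchange_assoc]
    dsimp only [Functor.comp_obj]
    rw [Functor.LaxMonoidal.μ_natural_right, Functor.LaxMonoidal.μ_natural_left_assoc, ← Functor.map_comp,
      ← MonoidalCategory.tensorHom_def]
  have : IsIso (((DRing.restrictD φ).map eE.hom ⊗ₘ eK.hom) ≫ DTen.projPF φ E K) := by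
    rw [e]; infer_instance
  exact IsIso.of_isIso_comp_left ((DRing.restrictD φ).map eE.hom ⊗ₘ eK.hom) _

theorem isIso_projUnit (X : Dual.D R) : IsIso (projUnit (DTen.baseAdj φ) X) := by
  have h : projUnit (DTen.baseAdj φ) X = DTen.projPF φ (DTen.unit A) X ≫
      (DRing.restrictD φ).map (λ_ ((DTen.LBase φ).obj X)).hom := by
    rw [projUnit, μ_restrict]
    exact (Category.assoc _ _ _).symm
  have := isIso_projPF φ (DTen.unit A) X
  rw [h]
  infer_instance

variable [DTen.HasRHom R] [DTen.HasRHom A]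

lemma bc_adjunct (K M : Dual.D R) [IsIso (DTen.rhomBC φ K ((DTen.LBase φ).obj M))] :
    DTen.bcRHom φ K M ▷ (DTen.LBase φ).obj K ≫ DTen.ev ((DTen.LBase φ).obj K) ((DTen.LBase φ).obj M) =
      Functor.LaxMonoidal.μ (DTen.LBase φ) ((DTen.RHomR R K).obj M) K ≫
        (DTen.LBase φ).map (DTen.ev K M) := by
  haveI := isIso_baseTen φ ((DTen.RHomR R K).obj M) K
  change _ = inv (baseTen φ ((DTen.RHomR R K).obj M) K) ≫ _
  rw [IsIso.eq_inv_comp]
  apply ((DTen.baseAdj φ).homEquiv _ _).injective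
  rw [baseTen, Adjunction.homEquiv_naturality_right]
  erw [Equiv.apply_symm_apply]
  rw [Adjunction.homEquiv_unit]
  refine Eq.trans ?_ ((DTen.baseAdj φ).unit.naturality (DTen.ev K M))
  have e1 := (DTen.resPF φ).naturality
    (Prod.mkHom (DTen.bcRHom φ K M) (𝟙 ((DTen.LBase φ).obj K)))
  have e2 := DTen.rhomBC_fac φ K ((DTen.LBase φ).obj M)
  have e3 := DTen.bcRHom_fac φ K M
  have e4 := (DTen.rhomAdj R K).counit.naturality ((DTen.baseAdj φ).unit.app M)
  dsimp [DTen.rhomBCCore] at e1 e2 e4 ⊢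
  simp only [Functor.map_comp, Category.assoc]
  refine Eq.trans ?_ e4
  change _ ≫ _ ≫ (DRing.restrictD φ).map
    ((DTen.LTen₂ A).map (Prod.mkHom (DTen.bcRHom φ K M) (𝟙 ((DTen.LBase φ).obj K)))) ≫ _ = _
  rw [← reassoc_of% e1]
  have e5 : (DTen.LTen₂ R).map (Prod.mkHom ((DTen.baseAdj φ).unit.app ((DTen.RHomR R K).obj M))
        ((DTen.baseAdj φ).unit.app K)) ≫
      (DTen.LTen₂ R).map (Prod.mkHom ((DRing.restrictD φ).map (DTen.bcRHom φ K M))
        ((DRing.restrictD φ).map (𝟙 ((DTen.LBase φ).obj K)))) =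
      (DTen.LTen₂ R).map (Prod.mkHom ((DTen.RHomR R K).map ((DTen.baseAdj φ).unit.app M)) (𝟙 K)) ≫
      (DTen.LTen₂ R).map (Prod.mkHom (inv (DTen.rhomBC φ K ((DTen.LBase φ).obj M))) (𝟙 K)) ≫
      (DTen.LTen₂ R).map (Prod.mkHom (𝟙 _) ((DTen.baseAdj φ).unit.app K)) := by
    simp only [← Functor.map_comp]
    congr 1
    exact Prod.ext (e3.trans (by simp)) (by simp)
  rw [reassoc_of% e5]
  refine congrArg (_ ≫ ·) ?_
  rw [← e2, ← Category.assoc]
  refine (congrArg (· ≫ _) (((DTen.tensorRightD R K).map_comp _ _).symm.trans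
    ((congrArg _ (IsIso.inv_hom_id _)).trans ((DTen.tensorRightD R K).map_id _)))).trans (Category.id_comp _)

theorem isIso_bcRHom_of_evalTen (K M : Dual.D R) [IsIso (DTen.rhomBC φ K ((DTen.LBase φ).obj M))]
    (h : IsIso (DTen.evalTen ((DRing.restrictD φ).obj (DTen.unit A)) M K)) :
    IsIso (DTen.bcRHom φ K M) := by
  let π := projUnit (DTen.baseAdj φ) ((DTen.RHomR R K).obj M)
  let π' := projUnit (DTen.baseAdj φ) M
  have := isIso_projUnit φ ((DTen.RHomR R K).obj M)
  have := isIso_projUnit φ M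
  have key : (π ≫ (DRing.restrictD φ).map (DTen.bcRHom φ K M)) ≫
        DTen.rhomBC φ K ((DTen.LBase φ).obj M) =
      DTen.evalTen ((DRing.restrictD φ).obj (DTen.unit A)) M K ≫ (DTen.RHomR R K).map π' := by
    apply ((DTen.rhomAdj R K).homEquiv _ _).symm.injective
    rw [Adjunction.homEquiv_naturality_left_symm, Adjunction.homEquiv_naturality_right_symm]
    erw [Equiv.symm_apply_apply, Equiv.symm_apply_apply]
    have h1 := projUnit_bc (DTen.baseAdj φ) ((DTen.RHomR R K).obj M) K M (DTen.ev K M)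
      (DTen.bcRHom φ K M) (DTen.ev _ _) (bc_adjunct φ K M)
    rw [μ_restrict] at h1
    exact h1.trans (Category.assoc _ _ _).symm
  have h2 : IsIso ((π ≫ (DRing.restrictD φ).map (DTen.bcRHom φ K M)) ≫
      DTen.rhomBC φ K ((DTen.LBase φ).obj M)) := by
    rw [key]; infer_instance
  have h3 := @IsIso.of_isIso_comp_right _ _ _ _ _ _ _ _ h2
  have : IsIso ((DRing.restrictD φ).map (DTen.bcRHom φ K M)) := IsIso.of_isIso_comp_left π _
  exact isIso_of_reflects_iso _ (DRing.restrictD φ)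

end Groth.Agent.DTenMon
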