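import Mathlib.RingTheory.PicardGroup
import Mathlib.Algebra.Homology.ShortComplex.ModuleCat
import Mathlib.RingTheory.TensorProduct.Basic
import Mathlib.Algebra.Category.ModuleCat.EnoughInjectives
import Mathlib.Algebra.Category.ModuleCat.Projective
import Mathlib.Algebra.Homology.DerivedCategory.Ext.ExactSequences
import Mathlib.Algebra.Homology.DerivedCategory.Ext.EnoughProjectives
import Mathlib.Algebra.Category.ModuleCat.Ext.HasExt

/-!
`Ext_R(A, R)` for `A` the quotient of `R` by an invertible ideal.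
-/

set_option autoImplicit false
set_option linter.style.haveILetI false
universe u

namespace Groth.Agent.DTenMon

open CategoryTheory Limits Abelian TensorProduct

variable (R A : Type u) [CommRing R] [CommRing A] [Algebra R A]

/-- the ideal -/
abbrev Iv : Ideal R := RingHom.ker (algebraMap R A)

/-- its dual -/
abbrev Dv := ↥(Iv R A) →ₗ[R] R

/-- the normal module -/
abbrev Nv := ↥(Iv R A) →ₗ[R] A

/-- `r ↦ r • subtype` -/
def ιv : R →ₗ[R] Dv R A := LinearMap.toSpanSingleton R (Dv R A) (Iv R A).subtype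

/-- reduction -/
def ψv : Dv R A →ₗ[R] Nv R A := LinearMap.llcomp R ↥(Iv R A) R A (Algebra.linearMap R A)

lemma ψv_ιv (r : R) : ψv R A (ιv R A r) = 0 := by
  ext x
  have hx : algebraMap R A (x : R) = 0 := x.2
  simp [ψv, ιv, hx]

/-- `I → R → A` -/
def seqA : ShortComplex (ModuleCat.{u} R) :=
  ShortComplex.mk (ModuleCat.ofHom (Iv R A).subtype) (ModuleCat.ofHom (Algebra.linearMap R A))
    (ModuleCat.hom_ext (LinearMap.ext fun x => x.2))

/-- `R → I^∨ → N` -/
def seqN : ShortComplex (ModuleCat.{u} R) :=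
  ShortComplex.mk (ModuleCat.ofHom (ιv R A)) (ModuleCat.ofHom (ψv R A))
    (ModuleCat.hom_ext (LinearMap.ext fun r => ψv_ιv R A r))

variable {R A} (hφ : Function.Surjective (algebraMap R A))

include hφ in
lemma seqA_shortExact : (seqA R A).ShortExact where
  exact := (ShortComplex.ShortExact.moduleCat_exact_iff_function_exact _).2 (by
    intro x
    constructor
    · exact fun hx => ⟨⟨x, hx⟩, rfl⟩
    · rintro ⟨y, rfl⟩; exact y.2)
  mono_f := (ModuleCat.mono_iff_injective _).2 Subtype.val_injective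
  epi_g := (ModuleCat.epi_iff_surjective _).2 hφ

variable [Module.Invertible R ↥(Iv R A)]

lemma eq_zero_of_mul (r : R) (h : ∀ x : ↥(Iv R A), r * (x : R) = 0) : r = 0 :=
  FaithfulSMul.eq_of_smul_eq_smul (α := ↥(Iv R A)) fun x =>
    Subtype.ext ((h x).trans (by simp))

include hφ in
lemma seqN_shortExact : (seqN R A).ShortExact where
  exact := (ShortComplex.ShortExact.moduleCat_exact_iff_function_exact _).2 (by
    intro f
    constructor
    · intro hf
      obtain ⟨r, hr⟩ := (Module.Invertible.toModuleEnd_bijective R ↥(Iv R A)).2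
        (LinearMap.codRestrict (Iv R A) f fun x => LinearMap.congr_fun (show ψv R A f = 0 from hf) x)
      refine ⟨r, LinearMap.ext fun x => ?_⟩
      have := congrArg Subtype.val (LinearMap.congr_fun hr x)
      simpa [seqN, ιv] using! this
    · rintro ⟨r, rfl⟩; exact ψv_ιv R A r)
  mono_f := (ModuleCat.mono_iff_injective _).2 ((injective_iff_map_eq_zero (ιv R A)).2 fun r hr =>
    eq_zero_of_mul r fun x => LinearMap.congr_fun hr x)
  epi_g := (ModuleCat.epi_iff_surjective _).2 fun g => by
    obtain ⟨f, hf⟩ := Module.projective_lifting_property (Algebra.linearMap R A) g hφ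
    exact ⟨f, hf⟩

lemma dual_hom_eq_zero (h : A →ₗ[R] Dv R A) : h = 0 := by
  ext a y
  refine eq_zero_of_mul (A := A) _ fun x => ?_
  have hx : (x : R) • a = 0 := by
    rw [Algebra.smul_def, show algebraMap R A (x : R) = 0 from x.2, zero_mul]
  have := LinearMap.congr_fun (map_zero h) y
  rw [← hx, map_smul] at this
  simpa [mul_comm] using this

include hφ in
/-- `Hom(A, N) ≅ Ext¹(A, R)` -/
theorem bijective_class : Function.Bijective
    (fun n : ModuleCat.of R A ⟶ ModuleCat.of R (Nv R A) =>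
      (Ext.mk₀ n).comp (seqN_shortExact hφ).extClass (zero_add 1)) := by
  constructor
  · intro n n' e
    rw [← sub_eq_zero]
    have h0 : (Ext.mk₀ (n - n')).comp (seqN_shortExact hφ).extClass (zero_add 1) = 0 := by
      have h := Ext.add_comp (Ext.mk₀ (n - n')) (Ext.mk₀ n') (seqN_shortExact hφ).extClass (zero_add 1)
      rw [← Ext.mk₀_add, sub_add_cancel] at h
      exact (left_eq_add.1 (e.symm.trans (h.trans (add_comm _ _))) : _)
    obtain ⟨x₂, hx₂⟩ := Ext.covariant_sequence_exact₃ _ (seqN_shortExact hφ) _ (zero_add 1) h0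
    obtain ⟨g, rfl⟩ := Ext.addEquiv₀.symm.surjective x₂
    simp only [Ext.addEquiv₀_symm_apply, Ext.mk₀_comp_mk₀] at hx₂
    rw [← (Ext.mk₀_bijective _ _).1 hx₂]
    have hg : g.hom = 0 := dual_hom_eq_zero g.hom
    rw [show g = 0 from ModuleCat.hom_ext hg, zero_comp]
    rfl
  · intro x
    haveI : Projective (seqA R A).X₂ := (IsProjective.iff_projective (ModuleCat.of R R)).1 inferInstance
    obtain ⟨y, hy⟩ := Ext.contravariant_sequence_exact₃ (seqA_shortExact hφ) _ x
      (Ext.eq_zero_of_projective _) (add_zero 1)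
    obtain ⟨f, rfl⟩ := Ext.addEquiv₀.symm.surjective y
    let f' : ↥(Iv R A) →ₗ[R] R := f.hom
    let t₂ : R →ₗ[R] Dv R A := LinearMap.toSpanSingleton R (Dv R A) f'
    let t₃ : A →ₗ[R] Nv R A := (LinearMap.toSpanSingleton A (Nv R A) (ψv R A f')).restrictScalars R
    have c₁ : ιv R A ∘ₗ f' = t₂ ∘ₗ (Iv R A).subtype := by
      ext x y
      change f' x * (y : R) = (x : R) * f' y
      have h1 : f' ((x : R) • y) = f' ((y : R) • x) :=
        congrArg f' (Subtype.ext (mul_comm _ _))
      rw [map_smul, map_smul] at h1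
      exact (mul_comm _ _).trans h1.symm
    have c₂ : ψv R A ∘ₗ t₂ = t₃ ∘ₗ Algebra.linearMap R A := by
      ext y
      simp [ψv, t₂, t₃]
    let F : seqA R A ⟶ seqN R A :=
      { τ₁ := ModuleCat.ofHom f'
        τ₂ := ModuleCat.ofHom t₂
        τ₃ := ModuleCat.ofHom t₃
        comm₁₂ := ModuleCat.hom_ext c₁
        comm₂₃ := ModuleCat.hom_ext c₂ }
    exact ⟨F.τ₃, (ShortComplex.ShortExact.extClass_naturality (seqA_shortExact hφ)
      (seqN_shortExact hφ) F).symm.trans hy⟩

include hφ in
theorem ext_eq_zero {i : ℕ} (hi : 2 ≤ i) (x : Ext (ModuleCat.of R A) (ModuleCat.of R R) i) : x = 0 := by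
  obtain ⟨j, rfl⟩ : ∃ j, i = 1 + (j + 1) := ⟨i - 2, by lia⟩
  haveI : Projective (seqA R A).X₂ := (IsProjective.iff_projective (ModuleCat.of R R)).1 inferInstance
  haveI : Projective (seqA R A).X₁ :=
    (IsProjective.iff_projective (ModuleCat.of R ↥(Iv R A))).1 inferInstance
  have h : (Ext.mk₀ (seqA R A).g).comp x (zero_add _) = 0 := by
    rw [show 1 + (j + 1) = (j + 1) + 1 from add_comm _ _] at *
    exact Ext.eq_zero_of_projective _
  obtain ⟨y, rfl⟩ := Ext.contravariant_sequence_exact₃ (seqA_shortExact hφ) _ x h rfl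
  rw [Ext.eq_zero_of_projective y, Ext.comp_zero]
  rfl

lemma hom_eq_zero (g : A →ₗ[R] R) : g = 0 := by
  ext a
  refine eq_zero_of_mul (A := A) _ fun x => ?_
  have hx : (x : R) • a = 0 := by
    rw [Algebra.smul_def, show algebraMap R A (x : R) = 0 from x.2, zero_mul]
  have := map_zero g
  rw [← hx, map_smul] at this
  simpa [mul_comm] using this

/-- `N` is the normal module -/
noncomputable def eqNv (N : Type u) [AddCommGroup N] [Module A N]
    (e : (A ⊗[R] ↥(Iv R A)) ⊗[A] N ≃ₗ[A] A) : N ≃ₗ[A] Nv R A :=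
  Module.Invertible.linearEquivDual (TensorProduct.comm A N (A ⊗[R] ↥(Iv R A)) ≪≫ₗ e) ≪≫ₗ
    (LinearMap.liftBaseChangeEquiv A).symm

end Groth.Agent.DTenMon
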