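import Groth.Agent.DTenMon.Proj
import Groth.Agent.DTenLib.Perfect

/-!
`RHom(A, -)` for `A` perfect over `R`.
-/

set_option autoImplicit false
set_option linter.style.haveILetI false
set_option backward.isDefEq.respectTransparency false
set_option backward.isDefEq.respectTransparency.types false
universe u

namespace Groth.Agent.DTenMon

open CategoryTheory Limits MonoidalCategory DTenLib

attribute [local instance] HasDerivedCategory.standard
attribute [local instance] monoidalD lBaseMonoidal restrictLax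

variable {R A : Type u} [CommRing R] [CommRing A] (φ : R →+* A)

/-- `RHom(A, -) ≅ - ⊗^L RHom(A, R)` -/
theorem nonempty_rRel_iso [DTen.HasRHomRel φ] [DTen.HasLTenMix φ]
    (hA : DRing.IsPerfect R ((DRing.restrictD φ).obj (DTen.unit A))) :
    Nonempty (DTen.RHomRel φ ≅
      (Functor.curry.obj (DTen.LTenMix φ)).flip.obj ((DTen.RHomRel φ).obj (DTen.unit R))) := by
  haveI := hasLTen (A := R)
  haveI := hasLTen (A := A)
  haveI := hasLTen₃ (A := R)
  haveI := hasLTen₃ (A := A)
  haveI := isSymMonoidal (A := R)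
  haveI := isSymMonoidal (A := A)
  haveI := hasLBase φ
  haveI := hasResTen φ
  haveI := resLegIso φ
  haveI := isIso_projMap φ
  obtain ⟨C', ⟨h⟩⟩ := exists_dual _ hA
  haveI : ∀ K, IsIso ((θ (DTen.baseAdj φ) (DTen.relAdj φ)).app K) := fun K =>
    @isIso_θ _ _ _ _ _ _ _ _ _ _ (DTen.baseAdj φ) _ (DTen.relAdj φ) _ _ C' h K
  let M := (DTen.RHomRel φ).obj (DTen.unit R)
  have := fun K : Dual.D R => isIso_split_app φ (K, M)
  refine ⟨(NatIso.ofComponents (fun K => (asIso ((θ (DTen.baseAdj φ) (DTen.relAdj φ)).app K)).symm ≪≫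
    asIso ((DTen.split φ).app (K, M))) fun {K K'} f => ?_)⟩
  change (DTen.RHomRel φ).map f ≫ inv ((θ (DTen.baseAdj φ) (DTen.relAdj φ)).app K') ≫
      (DTen.split φ).app (K', M) =
    (inv ((θ (DTen.baseAdj φ) (DTen.relAdj φ)).app K) ≫ (DTen.split φ).app (K, M)) ≫
      (DTen.LTenMix φ).map (Prod.mkHom f (𝟙 M))
  rw [Category.assoc, ← (DTen.split φ).naturality (Prod.mkHom f (𝟙 M)), ← Category.assoc, ← Category.assoc]
  congr 1
  rw [IsIso.comp_inv_eq, Category.assoc, IsIso.eq_inv_comp]
  exact ((θ (DTen.baseAdj φ) (DTen.relAdj φ)).naturality f).symm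

end Groth.Agent.DTenMon
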