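import Groth.Agent.DTenMon.Divisor
import Groth.Agent.DTenMon.RRel
import Groth.Agent.DTenPC.Shift
import Groth.Agent.PerfLocal.Perfect
import Mathlib.Algebra.Homology.DerivedCategory.ExactFunctor
import Mathlib.Algebra.Homology.DerivedCategory.FullyFaithful

/-!
`RHom(A, R) = N[-1]` for `A` the quotient of `R` by an invertible ideal with normal module `N`.
-/

set_option autoImplicit false
set_option linter.style.haveILetI false
set_option backward.isDefEq.respectTransparency false
set_option backward.isDefEq.respectTransparency.types false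
universe u

namespace Groth.Agent.DTenMon

open CategoryTheory Limits Pretriangulated Abelian

attribute [local instance] HasDerivedCategory.standard

variable {R A : Type u} [CommRing R] [CommRing A] [Algebra R A]

/-- restriction -/
noncomputable abbrev G₀ (R A : Type u) [CommRing R] [CommRing A] [Algebra R A] :
    Dual.D A ⥤ Dual.D R :=
  DRing.restrictD (algebraMap R A)

/-- restriction of single objects -/
noncomputable def rS (M : ModuleCat.{u} A) :
    (G₀ R A).obj ((DerivedCategory.singleFunctor (ModuleCat.{u} A) 0).obj M) ≅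
      (DerivedCategory.singleFunctor (ModuleCat.{u} R) 0).obj
        ((ModuleCat.restrictScalars (algebraMap R A)).obj M) :=
  ((ModuleCat.restrictScalars.{u} (algebraMap R A)).mapDerivedCategorySingleFunctor 0).app M

/-- `res M` as an `R`-module -/
noncomputable def resMod (M : Type u) [AddCommGroup M] [Module A M] [Module R M] [IsScalarTower R A M] :
    (ModuleCat.restrictScalars (algebraMap R A)).obj (ModuleCat.of A M) ≅ ModuleCat.of R M :=
  LinearEquiv.toModuleIso
    (X₁ := (ModuleCat.restrictScalars (algebraMap R A)).obj (ModuleCat.of A M))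
    { toFun := fun x => x
      invFun := fun x => x
      map_add' := fun _ _ => rfl
      map_smul' := fun r x => algebraMap_smul A r (show M from x)
      left_inv := fun _ => rfl
      right_inv := fun _ => rfl }

/-- `res (M[0]) ≅ M[0]` -/
noncomputable def rSM (M : Type u) [AddCommGroup M] [Module A M] [Module R M] [IsScalarTower R A M] :
    (G₀ R A).obj ((DerivedCategory.singleFunctor (ModuleCat.{u} A) 0).obj (ModuleCat.of A M)) ≅
      (DerivedCategory.singleFunctor (ModuleCat.{u} R) 0).obj (ModuleCat.of R M) :=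
  rS _ ≪≫ (DerivedCategory.singleFunctor (ModuleCat.{u} R) 0).mapIso (resMod M)

lemma rSM_natural {M M' : Type u} [AddCommGroup M] [Module A M] [Module R M] [IsScalarTower R A M]
    [AddCommGroup M'] [Module A M'] [Module R M'] [IsScalarTower R A M'] (n : M →ₗ[A] M') :
    (G₀ R A).map ((DerivedCategory.singleFunctor (ModuleCat.{u} A) 0).map (ModuleCat.ofHom n)) ≫
        (rSM M').hom =
      (rSM M).hom ≫
        (DerivedCategory.singleFunctor (ModuleCat.{u} R) 0).map (ModuleCat.ofHom (n.restrictScalars R)) := by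
  have h := ((ModuleCat.restrictScalars.{u} (algebraMap R A)).mapDerivedCategorySingleFunctor 0).hom.naturality
    (ModuleCat.ofHom n)
  simp only [rSM, rS, Iso.trans_hom, Functor.mapIso_hom, Iso.app_hom, Category.assoc]
  erw [reassoc_of% h]
  simp only [← Functor.map_comp]
  rfl

variable (hφ : Function.Surjective (algebraMap R A)) [Module.Invertible R ↥(Iv R A)]

include hφ in
theorem isPerfect_res_unit : DRing.IsPerfect R ((G₀ R A).obj (DTen.unit A)) := by
  have hp : ∀ P : ModuleCat.{u} R, Module.Finite R P → Module.Projective R P →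
      DRing.IsPerfect R ((DerivedCategory.singleFunctor (ModuleCat.{u} R) 0).obj P) := fun P h1 h2 => by
    refine ⟨(CochainComplex.singleFunctor (ModuleCat.{u} R) 0).obj P, 0, 0, fun i hi => ?_, fun i => ?_,
      ⟨((DerivedCategory.singleFunctorIsoCompQ (ModuleCat.{u} R) 0).app P).symm⟩⟩
    · exact HomologicalComplex.isZero_single_obj_X (ComplexShape.up ℤ) 0 P i (by rcases hi with h | h <;> lia)
    · by_cases hi : i = 0
      · subst hi
        have e := (HomologicalComplex.singleObjXSelf (ComplexShape.up ℤ) 0 P).toLinearEquiv.symm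
        exact ⟨Module.Finite.equiv e, Module.Projective.of_equiv e⟩
      · have hz := HomologicalComplex.isZero_single_obj_X (ComplexShape.up ℤ) 0 P i hi
        have hfree := (DRingKP.finiteFree_of_isZero hz).2
        exact ⟨(DRingKP.finiteFree_of_isZero hz).1,
          @Module.Projective.of_free R _ _ _ _ hfree⟩
  have h3 := PerfLocal.isPerfect_obj₃ _ (seqA_shortExact hφ).singleTriangle_distinguished
    (hp (seqA R A).X₁ (inferInstanceAs (Module.Finite R ↥(Iv R A)))
      (inferInstanceAs (Module.Projective R ↥(Iv R A))))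
    (hp (seqA R A).X₂ (inferInstanceAs (Module.Finite R R)) (inferInstanceAs (Module.Projective R R)))
  obtain ⟨E, a, b, h1, h2, ⟨e⟩⟩ := h3
  exact ⟨E, a, b, h1, h2, ⟨e ≪≫ (rSM A).symm ≪≫
    (G₀ R A).mapIso ((DerivedCategory.singleFunctorIsoCompQ (ModuleCat.{u} A) 0).app (ModuleCat.of A A))⟩⟩

/-- `res (A[-i]) ≅ A[-i]` -/
noncomputable def rU (i : ℤ) :
    (G₀ R A).obj (DTenPC.oU A i) ≅
      ((DerivedCategory.singleFunctor (ModuleCat.{u} R) 0).obj (ModuleCat.of R A))⟦-i⟧ :=
  ((G₀ R A).commShiftIso (-i)).app _ ≪≫ (shiftFunctor (Dual.D R) (-i)).mapIso (rSM A)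

/-- `Hom(X, Y⟦1⟧) ≃ Hom(X⟦-1⟧, Y)` -/
noncomputable def unshift (X Y : Dual.D R) : (X ⟶ Y⟦(1 : ℤ)⟧) ≃ (X⟦(-1 : ℤ)⟧ ⟶ Y) :=
  (shiftEquiv' (Dual.D R) (-1) 1 (by lia)).toAdjunction.homEquiv X Y |>.symm

lemma unshift_comp {X X' Y : Dual.D R} (f : X ⟶ X') (g : X' ⟶ Y⟦(1 : ℤ)⟧) :
    unshift X Y (f ≫ g) = f⟦(-1 : ℤ)⟧' ≫ unshift X' Y g :=
  Adjunction.homEquiv_naturality_left_symm _ f g

/-- `Hom(res A[-i], R) ≃ Hom(A, R[i])` -/
noncomputable def tgtEquiv (i : ℤ) :
    ((G₀ R A).obj (DTenPC.oU A i) ⟶ (DerivedCategory.singleFunctor (ModuleCat.{u} R) 0).obj (ModuleCat.of R R)) ≃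
      ((DerivedCategory.singleFunctor (ModuleCat.{u} R) 0).obj (ModuleCat.of R A) ⟶
        ((DerivedCategory.singleFunctor (ModuleCat.{u} R) 0).obj (ModuleCat.of R R))⟦i⟧) :=
  (Iso.homFromEquiv (rU i)).trans
    ((shiftEquiv' (Dual.D R) (-i) i (by lia)).toAdjunction.homEquiv _ _)

include hφ in
theorem subsingleton_tgt (i : ℤ) (hi : i ≠ 1) :
    Subsingleton ((G₀ R A).obj (DTenPC.oU A i) ⟶
      (DerivedCategory.singleFunctor (ModuleCat.{u} R) 0).obj (ModuleCat.of R R)) := by
  refine (tgtEquiv i).subsingleton_congr.2 ?_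
  rcases lt_or_ge i 0 with h | h
  · constructor
    intro x y
    have h2 : (((DerivedCategory.singleFunctor (ModuleCat.{u} R) 0).obj (ModuleCat.of R R))⟦i⟧).IsGE (-i) :=
      DerivedCategory.TStructure.t.isGE_shift _ 0 i (-i) (by lia)
    have h3 := fun f => DerivedCategory.TStructure.t.zero
      (X := (DerivedCategory.singleFunctor (ModuleCat.{u} R) 0).obj (ModuleCat.of R A)) (Y :=
        ((DerivedCategory.singleFunctor (ModuleCat.{u} R) 0).obj (ModuleCat.of R R))⟦i⟧) f 0 (-i) (by lia)
    rw [h3 x, h3 y]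
  · obtain ⟨k, rfl⟩ := Int.eq_ofNat_of_zero_le h
    let eE : Ext.{u} (ModuleCat.of R A) (ModuleCat.of R R) k ≃ _ := Ext.homEquiv
    refine eE.subsingleton_congr.1 ?_
    refine subsingleton_of_forall_eq 0 fun x => ?_
    rcases Nat.lt_or_ge k 2 with hk | hk
    · obtain rfl : k = 0 := by lia
      obtain ⟨g, rfl⟩ := Ext.addEquiv₀.symm.surjective x
      rw [show g = 0 from ModuleCat.hom_ext (hom_eq_zero g.hom), map_zero]
    · exact ext_eq_zero hφ hk x

/-- `N[-1]` -/
noncomputable abbrev nD (R A : Type u) [CommRing R] [CommRing A] [Algebra R A] : Dual.D A :=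
  ((DerivedCategory.singleFunctor (ModuleCat.{u} A) 0).obj (ModuleCat.of A (Nv R A)))⟦(-1 : ℤ)⟧

omit [Module.Invertible R ↥(Iv R A)] in
theorem subsingleton_src (i : ℤ) (hi : i ≠ 1) : Subsingleton (DTenPC.oU A i ⟶ nD R A) := by
  have h1 : (nD R A).IsLE 1 := DerivedCategory.TStructure.t.isLE_shift _ 0 (-1) 1 (by lia)
  have h2 : (nD R A).IsGE 1 := DerivedCategory.TStructure.t.isGE_shift _ 0 (-1) 1 (by lia)
  have hz : IsZero ((DTenPC.hf A i).obj (nD R A)) := by
    rcases lt_or_gt_of_ne hi with h | h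
    · exact DerivedCategory.isZero_of_isGE _ 1 i h
    · exact DerivedCategory.isZero_of_isLE _ 1 i h
  exact (DTenPC.hEquiv i (nD R A)).subsingleton_congr.2 (ModuleCat.subsingleton_of_isZero hz)

/-- the class `res N[-1] ⟶ R` -/
noncomputable def wD : (G₀ R A).obj (nD R A) ⟶
    (DerivedCategory.singleFunctor (ModuleCat.{u} R) 0).obj (ModuleCat.of R R) :=
  ((G₀ R A).commShiftIso (-1 : ℤ)).hom.app _ ≫
    (shiftFunctor (Dual.D R) (-1 : ℤ)).map (rSM (Nv R A)).hom ≫
      unshift _ _ (seqN_shortExact hφ).singleδ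

/-- `Hom_A(A, N) = Hom_R(A, N)` -/
noncomputable def homEquivA : (ModuleCat.of A A ⟶ ModuleCat.of A (Nv R A)) ≃
    (ModuleCat.of R A ⟶ ModuleCat.of R (Nv R A)) :=
  { toFun := fun n => ModuleCat.ofHom
      ((show A →ₗ[A] Nv R A from n.hom).restrictScalars R)
    invFun := fun m => ModuleCat.ofHom
      (LinearMap.extendScalarsOfSurjective hφ (show A →ₗ[R] Nv R A from m.hom))
    left_inv := fun _ => rfl
    right_inv := fun _ => rfl }

theorem bijective_w (i : ℤ) :
    Function.Bijective (fun u : DTenPC.oU A i ⟶ nD R A => (G₀ R A).map u ≫ wD hφ) := by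
  by_cases hi : i = 1
  · subst hi
    let S := DerivedCategory.singleFunctor (ModuleCat.{u} A) 0
    let e₁ : (ModuleCat.of A A ⟶ ModuleCat.of A (Nv R A)) ≃ (DTenPC.oU A 1 ⟶ nD R A) :=
      (Functor.FullyFaithful.ofFullyFaithful S).homEquiv.trans
        (Functor.FullyFaithful.ofFullyFaithful (shiftFunctor (Dual.D A) (-1 : ℤ))).homEquiv
    refine (Function.Bijective.of_comp_iff _ e₁.bijective).1 ?_
    have h : (fun u : DTenPC.oU A 1 ⟶ nD R A => (G₀ R A).map u ≫ wD hφ) ∘ e₁ =
        (fun x => (rU 1).hom ≫ x) ∘ (unshift _ _) ∘ Ext.homEquiv ∘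
          (fun n => (Ext.mk₀ n).comp (seqN_shortExact hφ).extClass (zero_add 1)) ∘ homEquivA hφ := by
      funext n
      change (G₀ R A).map ((shiftFunctor (Dual.D A) (-1 : ℤ)).map (S.map n)) ≫ wD hφ =
        (rU 1).hom ≫ unshift _ _ ((Ext.mk₀ (homEquivA hφ n)).comp (seqN_shortExact hφ).extClass
          (zero_add 1)).hom
      rw [Ext.comp_hom, Ext.mk₀_hom, ShortComplex.ShortExact.extClass_hom, ShiftedHom.mk₀_comp]
      erw [unshift_comp]
      simp only [wD, rU, Iso.trans_hom, Iso.app_hom, Functor.mapIso_hom, Category.assoc]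
      erw [((G₀ R A).commShiftIso (-1 : ℤ)).hom.naturality_assoc (S.map n)]
      refine congrArg _ ?_
      simp only [Functor.comp_map, ← Category.assoc, ← Functor.map_comp]
      refine congrArg (fun x => (shiftFunctor (Dual.D R) (-1 : ℤ)).map x ≫ _) ?_
      exact rSM_natural n.hom
    rw [h]
    exact ((Iso.homFromEquiv (rU 1).symm).bijective).comp ((unshift _ _).bijective.comp
      (Ext.homEquiv.bijective.comp ((bijective_class hφ).comp (homEquivA hφ).bijective)))
  · have := subsingleton_src (R := R) (A := A) i hi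
    have := subsingleton_tgt hφ i hi
    exact ⟨fun _ _ _ => Subsingleton.elim _ _, fun b => ⟨0, Subsingleton.elim _ _⟩⟩

variable [DTen.HasRHomRel (algebraMap R A)]

include hφ in
/-- `RHom(A, R) ≅ N[-1]` -/
theorem nonempty_normal_iso :
    Nonempty ((DTen.RHomRel (algebraMap R A)).obj (DTen.unit R) ≅ nD R A) := by
  let eR := (DerivedCategory.singleFunctorIsoCompQ (ModuleCat.{u} R) 0).app (ModuleCat.of R R)
  let ζ : nD R A ⟶ (DTen.RHomRel (algebraMap R A)).obj (DTen.unit R) :=
    (DTen.relAdj (algebraMap R A)).homEquiv _ _ (wD hφ ≫ eR.hom)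
  have : IsIso ζ := by
    refine (DerivedCategory.isIso_iff (ModuleCat.{u} A) ζ).2 fun i => ?_
    refine (DTenPC.isIso_H_iff i ζ).2 ?_
    let E := (Iso.homToEquiv eR : ((G₀ R A).obj (DTenPC.oU A i) ⟶ _) ≃ _).trans
      ((DTen.relAdj (algebraMap R A)).homEquiv (DTenPC.oU A i) (DTen.unit R))
    have h : (fun u : DTenPC.oU A i ⟶ nD R A => u ≫ ζ) =
        E ∘ fun u => (G₀ R A).map u ≫ wD hφ := by
      funext u
      simp only [Function.comp_apply, E, Equiv.trans_apply, Iso.homToEquiv_apply, Category.assoc, ζ]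
      exact ((DTen.relAdj (algebraMap R A)).homEquiv_naturality_left u (wD hφ ≫ eR.hom)).symm
    rw [h]
    exact E.bijective.comp (bijective_w hφ i)
  exact ⟨(asIso ζ).symm⟩

end Groth.Agent.DTenMon
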