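import Groth.Agent.DTenLib.DualCx
import Groth.Prelude.Def_DTen6

/-!
Extension of scalars of complexes is monoidal.
-/

set_option autoImplicit false
set_option linter.style.haveILetI false
set_option backward.isDefEq.respectTransparency false
set_option backward.isDefEq.respectTransparency.types false
universe u

namespace Groth.Agent.DTenMon

open CategoryTheory Limits MonoidalCategory HomologicalComplex Functor.LaxMonoidal

variable {R A : Type u} [CommRing R] [CommRing A] (φ : R →+* A)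

/-- the unit comparison -/
noncomputable def εCx : 𝟙_ (DRing.Cx A) ≅ (DTen.extCx φ).obj (𝟙_ (DRing.Cx R)) :=
  (single (ModuleCat.{u} A) (ComplexShape.up ℤ) 0).mapIso
      (Functor.Monoidal.εIso (DTen.extM φ)) ≪≫
    ((singleMapHomologicalComplex (DTen.extM φ) (ComplexShape.up ℤ) 0).app (𝟙_ (ModuleCat.{u} R))).symm

lemma εCx_f_zero : (singleObjXSelf (ComplexShape.up ℤ) 0 (𝟙_ (ModuleCat.{u} A))).inv ≫ (εCx φ).hom.f 0 =
    ε (DTen.extM φ) ≫
      (DTen.extM φ).map (singleObjXSelf (ComplexShape.up ℤ) 0 (𝟙_ (ModuleCat.{u} R))).inv := by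
  simp [εCx, single_map_f_self]

/-- the tensor comparison -/
noncomputable abbrev μCx (X Y : DRing.Cx R) :
    (DTen.extCx φ).obj X ⊗ (DTen.extCx φ).obj Y ≅ (DTen.extCx φ).obj (X ⊗ Y) :=
  (DTen.extTenCxIso φ X Y).symm

@[reassoc]
lemma ι_μ (X Y : DRing.Cx R) (p q n : ℤ) (h : p + q = n) :
    ιTensorObj ((DTen.extCx φ).obj X) ((DTen.extCx φ).obj Y) p q n h ≫ (μCx φ X Y).hom.f n =
      μ (DTen.extM φ) (X.X p) (Y.X q) ≫ (DTen.extM φ).map (ιTensorObj X Y p q n h) :=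
  DTen.ι_extTenCxIso_inv φ X Y p q n h

lemma assoc_μ (X Y Z : DRing.Cx R) :
    (μCx φ X Y).hom ▷ (DTen.extCx φ).obj Z ≫ (μCx φ (X ⊗ Y) Z).hom ≫
        (DTen.extCx φ).map (α_ X Y Z).hom =
      (α_ _ _ _).hom ≫ (DTen.extCx φ).obj X ◁ (μCx φ Y Z).hom ≫ (μCx φ X (Y ⊗ Z)).hom := by
  let F := DTen.extM φ
  let X' := (DTen.extCx φ).obj X
  let Y' := (DTen.extCx φ).obj Y
  let Z' := (DTen.extCx φ).obj Z
  refine hom_ext _ _ fun n => mapBifunctor₁₂.hom_ext (fun i j k h => ?_)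
  have h' : i + j + k = n := h
  have hr : i + (j + k) = n := by lia
  rw [mapBifunctor₁₂.ι_eq _ _ _ _ _ _ _ _ _ _ (i + j) _ rfl h']
  change ((ιTensorObj X' Y' i j (i + j) rfl ▷ Z'.X k) ≫ ιTensorObj (X' ⊗ Y') Z' (i + j) k n h') ≫ _ =
    ((ιTensorObj X' Y' i j (i + j) rfl ▷ Z'.X k) ≫ ιTensorObj (X' ⊗ Y') Z' (i + j) k n h') ≫ _
  simp only [comp_f, Category.assoc]
  rw [DTenLib.PreDual.ι_whiskerRight_f_assoc, ← comp_whiskerRight_assoc, ι_μ, ι_μ_assoc,
    DTenLib.PreDual.ι_assoc_hom_assoc X' Y' Z' i j k n (i + j) (j + k) rfl h' rfl hr,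
    DTenLib.PreDual.ι_whiskerLeft_f_assoc, ← whiskerLeft_comp_assoc, ι_μ, ι_μ, comp_whiskerRight, whiskerLeft_comp,
    Category.assoc, Category.assoc]
  change μ F _ _ ▷ F.obj (Z.X k) ≫ F.map (ιTensorObj X Y i j (i + j) rfl) ▷ F.obj (Z.X k) ≫
      μ F ((X ⊗ Y).X (i + j)) (Z.X k) ≫ F.map (ιTensorObj (X ⊗ Y) Z (i + j) k n h') ≫
        F.map ((α_ X Y Z).hom.f n) =
    (α_ (F.obj (X.X i)) (F.obj (Y.X j)) (F.obj (Z.X k))).hom ≫ F.obj (X.X i) ◁ μ F _ _ ≫
      F.obj (X.X i) ◁ F.map (ιTensorObj Y Z j k (j + k) rfl) ≫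
        μ F (X.X i) ((Y ⊗ Z).X (j + k)) ≫ F.map (ιTensorObj X (Y ⊗ Z) i (j + k) n hr)
  have e := congrArg F.map (DTenLib.PreDual.ι_assoc_hom X Y Z i j k n (i + j) (j + k) rfl h' rfl hr)
  simp only [Functor.map_comp] at e
  refine (congrArg (μ F (X.X i) (Y.X j) ▷ F.obj (Z.X k) ≫ ·)
    (μ_natural_left_assoc F (ιTensorObj X Y i j (i + j) rfl) (Z.X k) _)).trans ?_
  refine (congrArg (fun w => μ F (X.X i) (Y.X j) ▷ F.obj (Z.X k) ≫
    μ F (X.X i ⊗ Y.X j) (Z.X k) ≫ w) e).trans ?_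
  refine (associativity_assoc F (X.X i) (Y.X j) (Z.X k) _).trans ?_
  exact congrArg (fun w => (α_ (F.obj (X.X i)) (F.obj (Y.X j)) (F.obj (Z.X k))).hom ≫
    F.obj (X.X i) ◁ μ F (Y.X j) (Z.X k) ≫ w)
    (μ_natural_right_assoc F (X.X i) (ιTensorObj Y Z j k (j + k) rfl) _).symm

lemma left_μ (X : DRing.Cx R) :
    (λ_ ((DTen.extCx φ).obj X)).hom =
      (εCx φ).hom ▷ (DTen.extCx φ).obj X ≫ (μCx φ (𝟙_ _) X).hom ≫ (DTen.extCx φ).map (λ_ X).hom := by
  rw [← cancel_epi (λ_ ((DTen.extCx φ).obj X)).inv, Iso.inv_hom_id,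
    ← cancel_mono ((DTen.extCx φ).map (λ_ X).inv)]
  simp only [Category.id_comp, Category.assoc, ← Functor.map_comp, Iso.hom_inv_id,
    CategoryTheory.Functor.map_id, Category.comp_id]
  refine hom_ext _ _ fun n => ?_
  let F := DTen.extM φ
  simp only [comp_f, Functor.mapHomologicalComplex_map_f]
  rw [DTenLib.PreDual.leftUnitor_inv_f, DTenLib.PreDual.leftUnitor_inv_f, Category.assoc, Category.assoc]
  erw [DTenLib.PreDual.ι_whiskerRight_f_assoc, ← comp_whiskerRight_assoc, εCx_f_zero, ι_μ]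
  rw [comp_whiskerRight, Category.assoc]
  change _ = (λ_ (F.obj (X.X n))).inv ≫ ε F ▷ F.obj (X.X n) ≫
    F.map _ ▷ F.obj (X.X n) ≫ μ F _ (X.X n) ≫ F.map _
  rw [μ_natural_left_assoc, left_unitality_inv_assoc, ← Functor.map_comp, ← Functor.map_comp]
  rfl

lemma right_μ (X : DRing.Cx R) :
    (ρ_ ((DTen.extCx φ).obj X)).hom =
      (DTen.extCx φ).obj X ◁ (εCx φ).hom ≫ (μCx φ X (𝟙_ _)).hom ≫ (DTen.extCx φ).map (ρ_ X).hom := by
  rw [← cancel_epi (ρ_ ((DTen.extCx φ).obj X)).inv, Iso.inv_hom_id,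
    ← cancel_mono ((DTen.extCx φ).map (ρ_ X).inv)]
  simp only [Category.id_comp, Category.assoc, ← Functor.map_comp, Iso.hom_inv_id,
    CategoryTheory.Functor.map_id, Category.comp_id]
  refine hom_ext _ _ fun n => ?_
  let F := DTen.extM φ
  simp only [comp_f, Functor.mapHomologicalComplex_map_f]
  rw [DTenLib.PreDual.rightUnitor_inv_f, DTenLib.PreDual.rightUnitor_inv_f, Category.assoc, Category.assoc]
  erw [DTenLib.PreDual.ι_whiskerLeft_f_assoc, ← whiskerLeft_comp_assoc, εCx_f_zero, ι_μ]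
  rw [MonoidalCategory.whiskerLeft_comp, Category.assoc]
  change _ = (ρ_ (F.obj (X.X n))).inv ≫ F.obj (X.X n) ◁ ε F ≫
    F.obj (X.X n) ◁ F.map _ ≫ μ F (X.X n) _ ≫ F.map _
  rw [μ_natural_right_assoc, right_unitality_inv_assoc, ← Functor.map_comp, ← Functor.map_comp]
  rfl

/-- `extCx` is monoidal -/
@[reducible] noncomputable def extCxMonoidal : (DTen.extCx φ).Monoidal :=
  Functor.CoreMonoidal.toMonoidal
    { εIso := εCx φ
      μIso := μCx φ
      μIso_hom_natural_left := fun {X Y} f Z => by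
        have h := DTen.extTenCxIso_inv_naturality φ f (𝟙 Z)
        rw [CategoryTheory.Functor.map_id, MonoidalCategory.tensorHom_id, MonoidalCategory.tensorHom_id] at h
        exact h
      μIso_hom_natural_right := fun {X Y} Z f => by
        have h := DTen.extTenCxIso_inv_naturality φ (𝟙 Z) f
        rw [CategoryTheory.Functor.map_id, MonoidalCategory.id_tensorHom, MonoidalCategory.id_tensorHom] at h
        exact h
      associativity := assoc_μ φ
      left_unitality := left_μ φ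
      right_unitality := right_μ φ }

end Groth.Agent.DTenMon
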