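import Mathlib.CategoryTheory.Monoidal.Functor
import Mathlib.CategoryTheory.EssentialImage
import Mathlib.Tactic.CategoryTheory.Monoidal.Basic

/-!
Monoidality of a functor from its precomposition with an essentially surjective monoidal functor.
-/

set_option autoImplicit false
universe v₁ v₂ v₃ u₁ u₂ u₃

namespace Groth.Agent.DTenMon

open CategoryTheory MonoidalCategory Functor.LaxMonoidal

variable {C : Type u₁} [Category.{v₁} C] [MonoidalCategory C] {D : Type u₂} [Category.{v₂} D]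
  [MonoidalCategory D] {E : Type u₃} [Category.{v₃} E] [MonoidalCategory E]
  (P : C ⥤ D) [P.Monoidal] (Ψ : C ⥤ E) [Ψ.Monoidal] (L : D ⥤ E)

/-- comparison data -/
structure PreMon where
  /-- comparison -/
  c : ∀ K : C, L.obj (P.obj K) ≅ Ψ.obj K
  c_nat : ∀ {K K' : C} (f : K ⟶ K'), L.map (P.map f) ≫ (c K').hom = (c K).hom ≫ Ψ.map f
  /-- tensor -/
  m : ∀ X Y : D, L.obj X ⊗ L.obj Y ≅ L.obj (X ⊗ Y)
  m_left : ∀ {X X' : D} (f : X ⟶ X') (Y : D), L.map f ▷ L.obj Y ≫ (m X' Y).hom = (m X Y).hom ≫ L.map (f ▷ Y)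
  m_right : ∀ {Y Y' : D} (X : D) (f : Y ⟶ Y'), L.obj X ◁ L.map f ≫ (m X Y').hom = (m X Y).hom ≫ L.map (X ◁ f)
  m_c : ∀ K K' : C, (m (P.obj K) (P.obj K')).hom ≫ L.map (μ P K K') ≫ (c (K ⊗ K')).hom =
    ((c K).hom ⊗ₘ (c K').hom) ≫ μ Ψ K K'

variable {P Ψ L} (d : PreMon P Ψ L)

namespace PreMon

/-- the unit -/
noncomputable def e : 𝟙_ E ≅ L.obj (𝟙_ D) :=
  Functor.Monoidal.εIso Ψ ≪≫ (d.c _).symm ≪≫ L.mapIso (Functor.Monoidal.εIso P).symm

lemma e_c : d.e.hom ≫ L.map (ε P) ≫ (d.c _).hom = ε Ψ := by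
  simp [e, ← Functor.map_comp_assoc]

lemma assoc_obj (K K' K'' : C) :
    (d.m (P.obj K) (P.obj K')).hom ▷ L.obj (P.obj K'') ≫ (d.m (P.obj K ⊗ P.obj K') (P.obj K'')).hom ≫
        L.map (α_ _ _ _).hom =
      (α_ _ _ _).hom ≫ L.obj (P.obj K) ◁ (d.m (P.obj K') (P.obj K'')).hom ≫
        (d.m (P.obj K) (P.obj K' ⊗ P.obj K'')).hom := by
  rw [← cancel_mono (L.map (P.obj K ◁ μ P K' K'' ≫ μ P K (K' ⊗ K'')) ≫ (d.c _).hom)]
  simp only [Category.assoc]
  rw [← L.map_comp_assoc, ← associativity P, L.map_comp, Category.assoc, ← reassoc_of% (d.m_left (μ P K K') _),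
    L.map_comp, Category.assoc, d.c_nat, reassoc_of% (d.m_c (K ⊗ K') K''),
    ← comp_whiskerRight_assoc, L.map_comp, Category.assoc, ← reassoc_of% (d.m_right (P.obj K) (μ P K' K'')),
    d.m_c, ← whiskerLeft_comp_assoc]
  rw [MonoidalCategory.tensorHom_def (d.c (K ⊗ K')).hom, Category.assoc, ← comp_whiskerRight_assoc, Category.assoc,
    d.m_c, MonoidalCategory.tensorHom_def' (d.c K).hom (d.c (K' ⊗ K'')).hom, Category.assoc,
    ← whiskerLeft_comp_assoc, Category.assoc, d.m_c, MonoidalCategory.whiskerLeft_comp, comp_whiskerRight,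
    Category.assoc, Category.assoc, ← whisker_exchange_assoc, associativity Ψ]
  simp only [MonoidalCategory.tensorHom_def, MonoidalCategory.whiskerLeft_comp, Category.assoc]
  rw [whisker_exchange_assoc, whisker_exchange_assoc, whisker_exchange_assoc]
  monoidal

variable [P.EssSurj]

lemma assoc (X Y Z : D) :
    (d.m X Y).hom ▷ L.obj Z ≫ (d.m (X ⊗ Y) Z).hom ≫ L.map (α_ X Y Z).hom =
      (α_ (L.obj X) (L.obj Y) (L.obj Z)).hom ≫ L.obj X ◁ (d.m Y Z).hom ≫ (d.m X (Y ⊗ Z)).hom := by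
  let eX := P.objObjPreimageIso X
  let eY := P.objObjPreimageIso Y
  let eZ := P.objObjPreimageIso Z
  have h := d.assoc_obj (P.objPreimage X) (P.objPreimage Y) (P.objPreimage Z)
  have n : ∀ {X X' Y Y' : D} (f : X ⟶ X') (g : Y ⟶ Y'),
      (L.map f ⊗ₘ L.map g) ≫ (d.m X' Y').hom = (d.m X Y).hom ≫ L.map (f ⊗ₘ g) := fun f g => by
    rw [MonoidalCategory.tensorHom_def, Category.assoc, d.m_right, reassoc_of% (d.m_left f _), ← L.map_comp,
      ← MonoidalCategory.tensorHom_def]
  rw [← cancel_epi ((L.map eX.hom ⊗ₘ L.map eY.hom) ⊗ₘ L.map eZ.hom),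
    associator_naturality_assoc, ← MonoidalCategory.tensorHom_id, ← MonoidalCategory.id_tensorHom,
    tensorHom_comp_tensorHom_assoc, tensorHom_comp_tensorHom_assoc, n, n, Category.comp_id, Category.comp_id,
    ← Category.id_comp (L.map eZ.hom), ← Category.id_comp (L.map eX.hom),
    ← tensorHom_comp_tensorHom_assoc, ← tensorHom_comp_tensorHom_assoc, reassoc_of% n, n,
    MonoidalCategory.tensorHom_id, MonoidalCategory.id_tensorHom, ← L.map_comp, associator_naturality,
    L.map_comp, reassoc_of% h]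

lemma left (X : D) :
    (λ_ (L.obj X)).hom = d.e.hom ▷ L.obj X ≫ (d.m (𝟙_ D) X).hom ≫ L.map (λ_ X).hom := by
  let eX := P.objObjPreimageIso X
  rw [← cancel_epi (𝟙_ E ◁ L.map eX.hom), leftUnitor_naturality, whisker_exchange_assoc,
    reassoc_of% (d.m_right (𝟙_ D) eX.hom), ← L.map_comp, leftUnitor_naturality, L.map_comp]
  simp only [← Category.assoc]
  congr 1
  simp only [Category.assoc]
  rw [← cancel_mono (d.c _).hom, ← leftUnitor_naturality, left_unitality Ψ, whisker_exchange_assoc,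
    ← d.e_c, comp_whiskerRight, comp_whiskerRight, left_unitality P]
  simp only [Category.assoc, L.map_comp]
  rw [← reassoc_of% (d.m_left (ε P) (P.obj (P.objPreimage X))), d.c_nat,
    reassoc_of% (d.m_c (𝟙_ C) (P.objPreimage X)), MonoidalCategory.tensorHom_def, Category.assoc]

lemma right (X : D) :
    (ρ_ (L.obj X)).hom = L.obj X ◁ d.e.hom ≫ (d.m X (𝟙_ D)).hom ≫ L.map (ρ_ X).hom := by
  let eX := P.objObjPreimageIso X
  rw [← cancel_epi (L.map eX.hom ▷ 𝟙_ E), rightUnitor_naturality, ← whisker_exchange_assoc,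
    reassoc_of% (d.m_left eX.hom (𝟙_ D)), ← L.map_comp, rightUnitor_naturality, L.map_comp]
  simp only [← Category.assoc]
  congr 1
  simp only [Category.assoc]
  rw [← cancel_mono (d.c _).hom, ← rightUnitor_naturality, right_unitality Ψ, ← whisker_exchange_assoc,
    ← d.e_c, MonoidalCategory.whiskerLeft_comp, MonoidalCategory.whiskerLeft_comp, right_unitality P]
  simp only [Category.assoc, L.map_comp]
  rw [← reassoc_of% (d.m_right (P.obj (P.objPreimage X)) (ε P)), d.c_nat,
    reassoc_of% (d.m_c (P.objPreimage X) (𝟙_ C)), MonoidalCategory.tensorHom_def', Category.assoc]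

/-- `L` is monoidal -/
@[reducible] noncomputable def monoidal : L.Monoidal :=
  Functor.CoreMonoidal.toMonoidal
    { εIso := d.e
      μIso := d.m
      μIso_hom_natural_left := fun f Z => d.m_left f Z
      μIso_hom_natural_right := fun Z f => d.m_right Z f
      associativity := d.assoc
      left_unitality := d.left
      right_unitality := d.right }

end PreMon

end Groth.Agent.DTenMon
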