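import Groth.Agent.DTenLib.Monoidal
import Groth.Agent.DTenLib.BaseAdj
import Groth.Prelude.Def_DTen5

/-!
The binders of the derived tensor product hold.
-/

set_option autoImplicit false
set_option linter.style.haveILetI false
set_option backward.isDefEq.respectTransparency false
universe u

namespace Groth.Agent.DTenMon

open CategoryTheory Limits MonoidalCategory DTenLib

attribute [local instance] HasDerivedCategory.standard

variable {R A : Type u} [CommRing R] [CommRing A] (φ : R →+* A)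

lemma isIso_unitL_app [DTen.HasLTen A] (X : Dual.D A) : IsIso ((DTen.unitL A).app X) := by
  obtain ⟨K, hK, ⟨e⟩⟩ := exists_kFlat_rep X
  refine (NatTrans.isIso_app_iff_of_iso (DTen.unitL A) e).1 ?_
  rw [DTen.unitL_app]
  have := isIso_ε_right (𝟙_ (DRing.Cx A)) hK
  exact IsIso.comp_isIso' this inferInstance

lemma isIso_unitR_app [DTen.HasLTen A] (X : Dual.D A) : IsIso ((DTen.unitR A).app X) := by
  obtain ⟨K, hK, ⟨e⟩⟩ := exists_kFlat_rep X
  refine (NatTrans.isIso_app_iff_of_iso (DTen.unitR A) e).1 ?_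
  rw [DTen.unitR_app]
  have := isIso_ε_right K (isKFlat_unit (A := A))
  exact IsIso.comp_isIso' this inferInstance

theorem isSymMonoidal [DTen.HasLTen A] [DTen.HasLTen₃ A] : DTen.IsSymMonoidal A where
  isIso_symm := @NatIso.isIso_of_isIso_app _ _ _ _ _ _ _ isIso_symm_app
  isIso_unitL := @NatIso.isIso_of_isIso_app _ _ _ _ _ _ _ isIso_unitL_app
  isIso_unitR := @NatIso.isIso_of_isIso_app _ _ _ _ _ _ _ isIso_unitR_app
  isIso_assocL := @NatIso.isIso_of_isIso_app _ _ _ _ _ _ _ isIso_assocL_app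
  isIso_assocR := @NatIso.isIso_of_isIso_app _ _ _ _ _ _ _ isIso_assocR_app

/-- resolutions of pairs for `resTen` -/
noncomputable def leftResRT : KFlat.LeftRes (DTen.qis₂ A) (DTen.resTen₂ φ) KF₂ where
  ρ := (𝟭 _).prod DTenLib.res
  ψ :=
    { app := fun X => Prod.mkHom (𝟙 X.1) (resψ.app X.2)
      naturality := fun X Y f => Prod.ext ((Category.comp_id _).trans (Category.id_comp _).symm)
        (resψ.naturality f.2) }
  mem X := isKFlat_res X.2
  weq X := ⟨MorphismProperty.id_mem _ _, qis_resψ X.2⟩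
  isIso_map {X Y} f hX hY hf := by
    have : QuasiIso f.1 := hf.1
    have : QuasiIso f.2 := hf.2
    have := DRingKP.quasiIso_whiskerRight (K := X.2) hX f.1
    have := DRingKP.quasiIso_whiskerLeft f.2 hX hY Y.1
    have h : IsIso (DerivedCategory.Q.map (f.1 ▷ X.2 ≫ Y.1 ◁ f.2)) := inferInstance
    exact (NatIso.isIso_map_iff (DTen.resFactors φ) (f.1 ▷ X.2 ≫ Y.1 ◁ f.2)).1
      (@Functor.map_isIso _ _ _ _ _ _ (DRing.restrictD φ) _ h)

theorem hasResTen : DTen.HasResTen φ := (leftResRT φ).hasLeftDerivedFunctor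

theorem resLegIso [DTen.HasLTen A] [DTen.HasResTen φ] : DTen.ResLegIso φ where
  isIso := @NatIso.isIso_of_isIso_app _ _ _ _ _ _ _ <| isIso_app_pair (DTen.resLegB φ) fun K L _ hL => by
    refine isIso_of_comp_eq (DTen.resLegB_fac φ (K, L)) ?_ ?_
    · exact (leftResRT φ).isIso_app (DTen.ResTen φ) (DTen.εRes φ) (X := (K, L)) hL
    · have := isIso_ε_right K hL
      exact IsIso.comp_isIso' (@Functor.map_isIso _ _ _ _ _ _ (DRing.restrictD φ) _ this) inferInstance

end Groth.Agent.DTenMon
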