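import Groth.Agent.DTenMon.ExtCx
import Groth.Agent.DTenMon.Formal
import Groth.Agent.DTenMon.Instances
import Groth.Agent.DTenLib.RHomBC

/-!
Derived base change is monoidal.
-/

set_option autoImplicit false
set_option linter.style.haveILetI false
set_option backward.isDefEq.respectTransparency false
set_option backward.isDefEq.respectTransparency.types false
universe u

namespace Groth.Agent.DTenMon

open CategoryTheory Limits MonoidalCategory DTenLib

attribute [local instance] HasDerivedCategory.standard
attribute [local instance] monoidalD kfQMonoidal extCxMonoidal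

variable {R A : Type u} [CommRing R] [CommRing A] (φ : R →+* A)

/-- extension of scalars of K-flat complexes -/
noncomputable def extKF : (kf R).FullSubcategory ⥤ (kf A).FullSubcategory :=
  (kf A).lift ((kf R).ι ⋙ DTen.extCx φ) (fun K => KFlat.isKFlat_extendScalars φ K.property)

/-- it is monoidal -/
@[reducible] noncomputable def extKFMonoidal : (extKF φ).Monoidal :=
  Functor.CoreMonoidal.toMonoidal
    { εIso := (kf A).isoMk (εCx φ)
      μIso := fun X Y => (kf A).isoMk (μCx φ X.obj Y.obj)
      μIso_hom_natural_left := fun f Z => InducedCategory.hom_ext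
        (Functor.LaxMonoidal.μ_natural_left (DTen.extCx φ) f.hom Z.obj)
      μIso_hom_natural_right := fun Z f => InducedCategory.hom_ext
        (Functor.LaxMonoidal.μ_natural_right (DTen.extCx φ) Z.obj f.hom)
      associativity := fun X Y Z => InducedCategory.hom_ext (assoc_μ φ X.obj Y.obj Z.obj)
      left_unitality := fun X => InducedCategory.hom_ext (left_μ φ X.obj)
      right_unitality := fun X => InducedCategory.hom_ext (right_μ φ X.obj) }

attribute [local instance] extKFMonoidal

variable [DTen.HasLTen R] [DTen.HasLTen A] [DTen.HasLTen₃ R] [DTen.HasLTen₃ A]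
  [DTen.IsSymMonoidal R] [DTen.IsSymMonoidal A] [DTen.HasLBase φ] [DTen.HasResTen φ] [DTen.ResLegIso φ]

/-- comparison data of derived base change -/
noncomputable def preMon : PreMon (kfQ R) (extKF φ ⋙ kfQ A) (DTen.LBase φ) where
  c K := haveI := isIso_baseCmp φ K.property; asIso ((DTen.baseCmp φ).app K.obj)
  c_nat f := (DTen.baseCmp φ).naturality f.hom
  m X Y := haveI := isIso_baseTen φ X Y; (asIso (baseTen φ X Y)).symm
  m_left {X X'} f Y := by
    haveI := isIso_baseTen φ X Y
    haveI := isIso_baseTen φ X' Y
    change _ ≫ inv (baseTen φ X' Y) = inv (baseTen φ X Y) ≫ _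
    rw [IsIso.comp_inv_eq, Category.assoc, IsIso.eq_inv_comp]
    have h := baseTen_naturality φ f (𝟙 Y)
    rw [CategoryTheory.Functor.map_id] at h
    exact h.symm
  m_right {Y Y'} X f := by
    haveI := isIso_baseTen φ X Y
    haveI := isIso_baseTen φ X Y'
    change _ ≫ inv (baseTen φ X Y') = inv (baseTen φ X Y) ≫ _
    rw [IsIso.comp_inv_eq, Category.assoc, IsIso.eq_inv_comp]
    have h := baseTen_naturality φ (𝟙 X) f
    rw [CategoryTheory.Functor.map_id] at h
    exact h.symm
  m_c K K' := by
    haveI := isIso_baseTen φ (DerivedCategory.Q.obj K.obj) (DerivedCategory.Q.obj K'.obj)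
    change inv (baseTen φ _ _) ≫ (DTen.LBase φ).map ((DTen.ε R).app (K.obj, K'.obj)) ≫
        (DTen.baseCmp φ).app (K.obj ⊗ K'.obj) =
      (DTen.LTen₂ A).map (Prod.mkHom ((DTen.baseCmp φ).app K.obj) ((DTen.baseCmp φ).app K'.obj)) ≫
        (DTen.ε A).app ((DTen.extCx φ).obj K.obj, (DTen.extCx φ).obj K'.obj) ≫ DerivedCategory.Q.map (DTen.extTenCxIso φ K.obj K'.obj).inv
    rw [IsIso.inv_comp_eq, reassoc_of% (baseTen_Q φ K.obj K'.obj), ← Functor.map_comp, Iso.hom_inv_id,
      CategoryTheory.Functor.map_id, Category.comp_id]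

/-- derived base change is monoidal -/
@[reducible] noncomputable def lBaseMonoidal : (DTen.LBase φ).Monoidal := (preMon φ).monoidal

end Groth.Agent.DTenMon
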