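import Mathlib.CategoryTheory.Monoidal.Functor
import Mathlib.CategoryTheory.Monoidal.Rigid.Basic
import Mathlib.CategoryTheory.Yoneda
import Mathlib.Tactic.CategoryTheory.Monoidal.Basic

/-!
The right adjoint of a projection-formula right adjoint with dualisable unit.
-/

set_option autoImplicit false
universe v₁ v₂ u₁ u₂

namespace Groth.Agent.DTenMon

open CategoryTheory MonoidalCategory Functor.LaxMonoidal

variable {C : Type u₁} [Category.{v₁} C] [MonoidalCategory C] {E : Type u₂} [Category.{v₂} E]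
  [MonoidalCategory E] {F : C ⥤ E} [F.Monoidal] {G : E ⥤ C} [G.LaxMonoidal] (adj : F ⊣ G)

/-- projection formula map -/
def projMap (K : C) (W : E) : K ⊗ G.obj W ⟶ G.obj (F.obj K ⊗ W) :=
  adj.unit.app K ▷ G.obj W ≫ μ G (F.obj K) W

/-- the action of `G 1` -/
def act (Z : E) : G.obj Z ⊗ G.obj (𝟙_ E) ⟶ G.obj Z := μ G Z (𝟙_ E) ≫ G.map (ρ_ Z).hom

omit [F.Monoidal] in
lemma projMap_natural {K K' : C} (f : K ⟶ K') (W : E) :
    f ▷ G.obj W ≫ projMap adj K' W = projMap adj K W ≫ G.map (F.map f ▷ W) := by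
  have h : f ≫ adj.unit.app K' = adj.unit.app K ≫ G.map (F.map f) := adj.unit.naturality f
  rw [projMap, projMap, ← comp_whiskerRight_assoc, h, comp_whiskerRight, Category.assoc, Category.assoc,
    μ_natural_left]

lemma act_natural {Z Z' : E} (f : Z ⟶ Z') : G.map f ▷ _ ≫ act Z' = act Z ≫ G.map f := by
  rw [act, act, μ_natural_left_assoc, Category.assoc, ← G.map_comp, ← G.map_comp, rightUnitor_naturality]

omit [F.Monoidal] in
lemma projMap_symm {X : C} {Z : E} (t : X ⟶ G.obj Z) :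
    projMap adj X (𝟙_ E) ≫ G.map (ρ_ (F.obj X)).hom ≫ G.map ((adj.homEquiv X Z).symm t) = t ▷ _ ≫ act Z := by
  have e : adj.unit.app X ≫ G.map ((adj.homEquiv X Z).symm t) = t :=
    ((adj.homEquiv_unit _ _ _).symm.trans ((adj.homEquiv X Z).apply_symm_apply t))
  conv_rhs => rw [← e, comp_whiskerRight, Category.assoc, act_natural]
  simp only [projMap, act, Category.assoc]

lemma act_projMap (K : C) (W : E) :
    projMap adj K W ▷ _ ≫ act (F.obj K ⊗ W) = (α_ _ _ _).hom ≫ K ◁ act W ≫ projMap adj K W := by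
  have h : μ G (F.obj K) W ▷ G.obj (𝟙_ E) ≫ act (F.obj K ⊗ W) =
      (α_ _ _ _).hom ≫ G.obj (F.obj K) ◁ act W ≫ μ G (F.obj K) W := by
    rw [act, act, MonoidalCategory.whiskerLeft_comp, Category.assoc, μ_natural_right,
      ← associativity_assoc, ← G.map_comp, rightUnitor_tensor_hom]
  rw [projMap, comp_whiskerRight, Category.assoc, h]
  dsimp only [Functor.comp_obj, Functor.id_obj]
  rw [associator_naturality_left_assoc, ← whisker_exchange_assoc]

variable {H : C ⥤ E} (adj' : G ⊣ H) [∀ K W, IsIso (projMap adj K W)]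

/-- the comparison -/
noncomputable def θ : F ⋙ tensorRight (H.obj (𝟙_ C)) ⟶ H where
  app K := adj'.homEquiv _ _ (inv (projMap adj K (H.obj (𝟙_ C))) ≫ K ◁ adj'.counit.app (𝟙_ C) ≫ (ρ_ K).hom)
  naturality K K' f := by
    dsimp
    rw [← Adjunction.homEquiv_naturality_left, ← Adjunction.homEquiv_naturality_right]
    congr 1
    rw [← cancel_epi (projMap adj K (H.obj (𝟙_ C))), ← reassoc_of% (projMap_natural adj f (H.obj (𝟙_ C))),
      IsIso.hom_inv_id_assoc, Category.assoc, IsIso.hom_inv_id_assoc, Category.assoc,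
      ← rightUnitor_naturality, whisker_exchange_assoc]

/-- the pairing `G H 1 ⊗ G 1 ⟶ 1` -/
noncomputable abbrev pair : G.obj (H.obj (𝟙_ C)) ⊗ G.obj (𝟙_ E) ⟶ 𝟙_ C :=
  act (H.obj (𝟙_ C)) ≫ adj'.counit.app (𝟙_ C)

omit [F.Monoidal] in
include adj in
lemma bijective_pair (X : C) :
    Function.Bijective (fun t : X ⟶ G.obj (H.obj (𝟙_ C)) => t ▷ G.obj (𝟙_ E) ≫ pair adj') := by
  let e : X ⊗ G.obj (𝟙_ E) ≅ G.obj (F.obj X) :=
    asIso (projMap adj X (𝟙_ E)) ≪≫ G.mapIso (ρ_ _)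
  let E' := (adj.homEquiv X (H.obj (𝟙_ C))).symm.trans
    ((adj'.homEquiv (F.obj X) (𝟙_ C)).symm.trans (Iso.homFromEquiv e.symm))
  have hE : (fun t : X ⟶ G.obj (H.obj (𝟙_ C)) => t ▷ G.obj (𝟙_ E) ≫ pair adj') = E' := by
    funext t
    simp only [E', e, Equiv.trans_apply, Adjunction.homEquiv_counit (adj := adj'), Iso.homFromEquiv_apply,
      Iso.symm_inv, Iso.trans_hom, asIso_hom, Functor.mapIso_hom, Category.assoc, pair]
    rw [reassoc_of% (projMap_symm adj t)]
  rw [hE]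
  exact E'.bijective

theorem isIso_θ [G.ReflectsIsomorphisms] (C' : C) [ExactPairing (G.obj (𝟙_ E)) C'] (K : C) :
    IsIso ((θ adj adj').app K) := by
  let V := G.obj (H.obj (𝟙_ C))
  let U := G.obj (𝟙_ E)
  let u : V ⟶ C' := tensorRightHomEquiv V U C' (𝟙_ C) (pair adj') ≫ (λ_ C').hom
  have hu : IsIso u := by
    refine isIso_of_yoneda_map_bijective _ fun X => ?_
    have h : (fun t : X ⟶ V => t ≫ u) = fun t =>
        ((tensorRightHomEquiv X U C' (𝟙_ C)).trans (Iso.homToEquiv (λ_ C'))) (t ▷ U ≫ pair adj') := by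
      funext t
      simp only [Equiv.trans_apply, Iso.homToEquiv_apply, u]
      change _ = ((ρ_ X).inv ≫ X ◁ η_ U C' ≫ (α_ X U C').inv ≫ (t ▷ U ≫ pair adj') ▷ C') ≫ _
      change t ≫ ((ρ_ V).inv ≫ V ◁ η_ U C' ≫ (α_ V U C').inv ≫ pair adj' ▷ C') ≫ _ = _
      simp only [comp_whiskerRight, Category.assoc]
      rw [← associator_inv_naturality_left_assoc, whisker_exchange_assoc]
      monoidal
    rw [h]
    exact (Equiv.bijective _).comp (bijective_pair adj adj' X)
  have : IsIso (G.map ((θ adj adj').app K)) := by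
    refine isIso_of_yoneda_map_bijective _ fun X => ?_
    let e : X ⊗ U ≅ G.obj (F.obj X) := asIso (projMap adj X (𝟙_ E)) ≪≫ G.mapIso (ρ_ _)
    let Ψ : (X ⟶ K ⊗ V) ≃ (X ⊗ U ⟶ K) :=
      (Iso.homToEquiv (whiskerLeftIso K (asIso u))).trans
        ((Iso.homToEquiv (whiskerRightIso (ρ_ K) C' ≪≫ Iso.refl _).symm).trans
          ((tensorRightHomEquiv X U C' (K ⊗ 𝟙_ C)).symm.trans (Iso.homToEquiv (ρ_ K))))
    have hΨ : ∀ t, Ψ t = t ▷ U ≫ (α_ K V U).hom ≫ K ◁ pair adj' ≫ (ρ_ K).hom := fun t => by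
      simp only [Ψ, Equiv.trans_apply, Iso.homToEquiv_apply]
      rw [← cancel_mono (ρ_ K).inv, Category.assoc, Iso.hom_inv_id, Category.comp_id]
      apply (tensorRightHomEquiv X U C' (K ⊗ 𝟙_ C)).injective
      rw [Equiv.apply_symm_apply]
      change _ = (ρ_ X).inv ≫ X ◁ η_ U C' ≫ (α_ X U C').inv ≫
        ((t ▷ U ≫ (α_ K V U).hom ≫ K ◁ pair adj' ≫ (ρ_ K).hom) ≫ (ρ_ K).inv) ▷ C'
      simp only [Category.assoc, Iso.hom_inv_id, Category.comp_id, Iso.symm_hom, Iso.trans_inv,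
        whiskerLeftIso_hom, asIso_hom, whiskerRightIso_inv, Iso.refl_inv, Category.id_comp, comp_whiskerRight]
      rw [← associator_inv_naturality_left_assoc, whisker_exchange_assoc]
      change t ≫ K ◁ (((ρ_ V).inv ≫ V ◁ η_ U C' ≫ (α_ V U C').inv ≫ pair adj' ▷ C') ≫ (λ_ C').hom) ≫ _ = _
      monoidal
    let E₁ : (X ⟶ G.obj (F.obj K ⊗ H.obj (𝟙_ C))) ≃ (X ⟶ G.obj (H.obj K)) :=
      ((Iso.homToEquiv (asIso (projMap adj K (H.obj (𝟙_ C))))).symm.trans
        ((Ψ.trans (Iso.homFromEquiv e)).trans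
          ((adj'.homEquiv (F.obj X) K).trans (adj.homEquiv X (H.obj K)))))
    have hE : (fun g : X ⟶ G.obj (F.obj K ⊗ H.obj (𝟙_ C)) => g ≫ G.map ((θ adj adj').app K)) = E₁ := by
      funext g
      obtain ⟨t, rfl⟩ := (Iso.homToEquiv (asIso (projMap adj K (H.obj (𝟙_ C))))).surjective g
      simp only [E₁, Equiv.trans_apply, Equiv.symm_apply_apply]
      rw [hΨ]
      apply (adj.homEquiv X (H.obj K)).symm.injective
      rw [Equiv.symm_apply_apply, Adjunction.homEquiv_naturality_right_symm]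
      apply (adj'.homEquiv (F.obj X) K).symm.injective
      simp only [θ, Equiv.symm_apply_apply, Adjunction.homEquiv_naturality_left_symm, Iso.homFromEquiv_apply,
        Iso.homToEquiv_apply, asIso_hom]
      rw [← cancel_epi e.hom, Iso.hom_inv_id_assoc]
      simp only [e, Iso.trans_hom, asIso_hom, Functor.mapIso_hom, Category.assoc, pair,
        MonoidalCategory.whiskerLeft_comp]
      rw [← Adjunction.homEquiv_naturality_left_symm adj]
      erw [Equiv.symm_apply_apply]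
      rw [reassoc_of% (projMap_symm adj (t ≫ projMap adj K (H.obj (𝟙_ C)))), comp_whiskerRight,
        Category.assoc, reassoc_of% (act_projMap adj K (H.obj (𝟙_ C))), IsIso.hom_inv_id_assoc]
    exact hE ▸ E₁.bijective
  exact isIso_of_reflects_iso _ G

end Groth.Agent.DTenMon
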