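import Groth.Agent.DTenMon.LBase
import Groth.Agent.DTenMon.RightAdj
import Groth.Agent.DQCoh.AffinePerf
import Mathlib.Algebra.Category.ModuleCat.Monoidal.Symmetric

/-!
The projection formula for restriction of scalars.
-/

set_option autoImplicit false
set_option linter.style.haveILetI false
set_option backward.isDefEq.respectTransparency false
set_option backward.isDefEq.respectTransparency.types false
universe u

namespace Groth.Agent.DTenMon

open CategoryTheory Limits MonoidalCategory HomologicalComplex DTenLib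

attribute [local instance] HasDerivedCategory.standard
attribute [local instance] monoidalD kfQMonoidal lBaseMonoidal

variable {R A : Type u} [CommRing R] [CommRing A] (φ : R →+* A)

/-- `M ⊗ res W ≅ res (ext M ⊗ W)` -/
noncomputable def projL (M : ModuleCat.{u} R) (W : ModuleCat.{u} A) :
    M ⊗ (DTen.resM φ).obj W ≅ (DTen.resM φ).obj ((DTen.extM φ).obj M ⊗ W) :=
  BraidedCategory.braiding _ _ ≪≫ KFlat.projIso φ W M ≪≫
    (DTen.resM φ).mapIso (BraidedCategory.braiding _ _)

lemma projL_hom (M : ModuleCat.{u} R) (W : ModuleCat.{u} A) :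
    (projL φ M W).hom = (ModuleCat.extendRestrictScalarsAdj.{u, u, u} φ).unit.app M ▷ (DTen.resM φ).obj W ≫
      DTen.resTen₀app φ ((DTen.extM φ).obj M) W :=
  ModuleCat.MonoidalCategory.tensor_ext fun _ _ => rfl

/-- the same on complexes -/
noncomputable def projCxIso (K : DRing.Cx R) (N : DRing.Cx A) :
    K ⊗ (DTen.resCx φ).obj N ≅ (DTen.resCx φ).obj ((DTen.extCx φ).obj K ⊗ N) :=
  KFlat.mapTensIso (𝟭 _) (ModuleCat.restrictScalars φ) (ModuleCat.extendScalars.{u, u, u} φ) (𝟭 _)
    (ModuleCat.restrictScalars φ) (curriedTensor (ModuleCat.{u} A)) (curriedTensor (ModuleCat.{u} R))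
    (projL φ)
    (fun _ _ => ModuleCat.MonoidalCategory.tensor_ext fun _ _ => rfl)
    (fun _ _ _ _ => ModuleCat.MonoidalCategory.tensor_ext fun _ _ => rfl) K N

lemma projCxIso_hom (K : DRing.Cx R) (N : DRing.Cx A) :
    (DTen.unitCx φ).app K ▷ (DTen.resCx φ).obj N ≫ DTen.resTenCx φ ((DTen.extCx φ).obj K) N =
      (projCxIso φ K N).hom := by
  refine hom_ext _ _ fun n => mapBifunctor.hom_ext fun p q h => ?_
  refine ((Category.assoc _ _ _).symm.trans ?_).trans
    (KFlat.ι_mapTensX (𝟭 _) (ModuleCat.restrictScalars φ) (ModuleCat.extendScalars.{u, u, u} φ) (𝟭 _)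
      (ModuleCat.restrictScalars φ) (curriedTensor (ModuleCat.{u} A)) (curriedTensor (ModuleCat.{u} R))
      (projL φ) K N n p q h).symm
  rw [Category.assoc]
  erw [PreDual.ι_whiskerRight_f_assoc ((DTen.unitCx φ).app K) ((DTen.resCx φ).obj N) p q n h,
    DTen.ι_resTenCx φ ((DTen.extCx φ).obj K) N p q n h]
  rw [projL_hom, Category.assoc]
  rfl

instance reflectsIso_restrictD : (DRing.restrictD φ).ReflectsIsomorphisms where
  reflects {X Y} f hf := by
    let eX := DerivedCategory.Q.objObjPreimageIso X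
    rw [DerivedCategory.isIso_iff]
    intro n
    have h1 : IsIso ((DerivedCategory.homologyFunctor (ModuleCat.{u} R) n).map ((DRing.restrictD φ).map f)) :=
      inferInstance
    have h2 := (NatIso.isIso_map_iff (DQCoh.homologyDerIso (ModuleCat.restrictScalars.{u} φ) n) f).1 h1
    exact (isIso_iff_of_reflects_iso _ (ModuleCat.restrictScalars.{u} φ)).1 h2

variable [DTen.HasLTen R] [DTen.HasLTen A] [DTen.HasLTen₃ R] [DTen.HasLTen₃ A]
  [DTen.IsSymMonoidal R] [DTen.IsSymMonoidal A] [DTen.HasLBase φ] [DTen.HasResTen φ] [DTen.ResLegIso φ]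

/-- restriction is lax monoidal -/
@[reducible] noncomputable def restrictLax : (DRing.restrictD φ).LaxMonoidal :=
  (DTen.baseAdj φ).rightAdjointLaxMonoidal

attribute [local instance] restrictLax

lemma μ_restrict (X Y : Dual.D A) :
    Functor.LaxMonoidal.μ (DRing.restrictD φ) X Y = (DTen.resPF φ).app (X, Y) := by
  change (DTen.baseAdj φ).homEquiv _ _ (baseTen φ _ _ ≫
    ((DTen.baseAdj φ).counit.app X ⊗ₘ (DTen.baseAdj φ).counit.app Y)) = _
  rw [Adjunction.homEquiv_naturality_right, baseTen, Equiv.apply_symm_apply, Category.assoc]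
  have e := (DTen.resPF φ).naturality
    (Prod.mkHom ((DTen.baseAdj φ).counit.app X) ((DTen.baseAdj φ).counit.app Y))
  refine (congrArg (_ ≫ ·) e.symm).trans ?_
  refine (Category.assoc _ _ _).symm.trans ?_
  change ((DTen.LTen₂ R).map _ ≫ (DTen.LTen₂ R).map _) ≫ _ = _
  rw [← Functor.map_comp]
  refine (congrArg (fun w => (DTen.LTen₂ R).map w ≫ _)
    (Prod.ext ((DTen.baseAdj φ).right_triangle_components X) ((DTen.baseAdj φ).right_triangle_components Y) :
      _ = 𝟙 ((DRing.restrictD φ).obj X, (DRing.restrictD φ).obj Y))).trans ?_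
  rw [CategoryTheory.Functor.map_id]
  exact Category.id_comp _

lemma projMap_Q (k : DRing.Cx R) (n : DRing.Cx A) :
    projMap (DTen.baseAdj φ) (DerivedCategory.Q.obj k) (DerivedCategory.Q.obj n) ≫
        (DRing.restrictD φ).map
          ((DTen.LTen₂ A).map (Prod.mkHom ((DTen.baseCmp φ).app k) (𝟙 (DerivedCategory.Q.obj n))) ≫
            (DTen.ε A).app ((DTen.extCx φ).obj k, n)) ≫
        (DTen.resFactors φ).hom.app ((DTen.extCx φ).obj k ⊗ n) =
      (DTen.LTen₂ R).map (Prod.mkHom (𝟙 (DerivedCategory.Q.obj k)) ((DTen.resFactors φ).hom.app n)) ≫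
        (DTen.ε R).app (k, (DTen.resCx φ).obj n) ≫ DerivedCategory.Q.map (projCxIso φ k n).hom := by
  rw [← projCxIso_hom, projMap, μ_restrict]
  have e1 := (DTen.resPF φ).naturality (Prod.mkHom ((DTen.baseCmp φ).app k) (𝟙 (DerivedCategory.Q.obj n)))
  have e2 := DTen.resPF_fac φ ((DTen.extCx φ).obj k, n)
  have e3 := (DTen.ε R).naturality (Prod.mkHom ((DTen.unitCx φ).app k) (𝟙 ((DTen.resCx φ).obj n)))
  dsimp [DTen.resβA, DTen.resβB] at e1 e2 e3 ⊢
  simp only [Functor.map_comp, Category.assoc]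
  rw [← reassoc_of% e1, e2, ← Functor.map_comp_assoc]
  change (DTen.LTen₂ R).map _ ≫ _ = _
  rw [← Functor.map_comp_assoc]
  simp only [prod_comp, Prod.mkHom, CategoryTheory.Functor.map_id, Category.id_comp] at e3 ⊢
  rw [MonoidalCategory.whiskerLeft_id, Category.comp_id] at e3
  rw [← reassoc_of% e3]
  rw [← Functor.map_comp_assoc]
  congr 2
  simp only [prod_comp, Category.id_comp, Category.comp_id]
  refine Prod.ext ?_ rfl
  have hb := DTen.baseCmp_fac φ k
  dsimp [DTen.baseγ] at hb
  rw [reassoc_of% hb]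
  simp

theorem isIso_projMap (K : Dual.D R) (W : Dual.D A) : IsIso (projMap (DTen.baseAdj φ) K W) := by
  obtain ⟨k, hk, ⟨eK⟩⟩ := exists_kFlat_rep K
  obtain ⟨n, hn, ⟨eW⟩⟩ := exists_kFlat_rep W
  have h : IsIso (projMap (DTen.baseAdj φ) (DerivedCategory.Q.obj k) (DerivedCategory.Q.obj n)) := by
    have := isIso_baseCmp φ hk
    have := isIso_ε_right ((DTen.extCx φ).obj k) hn
    have := isIso_ε_left hk ((DTen.resCx φ).obj n)
    have h1 : IsIso (Prod.mkHom ((DTen.baseCmp φ).app k) (𝟙 (DerivedCategory.Q.obj n))) :=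
      (Iso.prod (asIso ((DTen.baseCmp φ).app k)) (Iso.refl _)).isIso_hom
    have h2 : IsIso (Prod.mkHom (𝟙 (DerivedCategory.Q.obj k)) ((DTen.resFactors φ).hom.app n)) :=
      (Iso.prod (Iso.refl _) ((DTen.resFactors φ).app n)).isIso_hom
    exact isIso_of_comp_eq (projMap_Q φ k n)
      (IsIso.comp_isIso' (@Functor.map_isIso _ _ _ _ _ _ (DRing.restrictD φ) _
        (IsIso.comp_isIso' (@Functor.map_isIso _ _ _ _ _ _ (DTen.LTen₂ A) _ h1) inferInstance)) inferInstance)
      (IsIso.comp_isIso' (@Functor.map_isIso _ _ _ _ _ _ (DTen.LTen₂ R) _ h2)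
        (IsIso.comp_isIso' inferInstance inferInstance))
  have e : (eK.hom ⊗ₘ (DRing.restrictD φ).map eW.hom) ≫ projMap (DTen.baseAdj φ) K W =
      projMap (DTen.baseAdj φ) (DerivedCategory.Q.obj k) (DerivedCategory.Q.obj n) ≫
        (DRing.restrictD φ).map ((DTen.LBase φ).map eK.hom ⊗ₘ eW.hom) := by
    rw [tensorHom_def', Category.assoc, projMap_natural, tensorHom_def', Functor.map_comp,
      ← Category.assoc, ← Category.assoc]
    congr 1
    rw [projMap, projMap, whisker_exchange_assoc, Category.assoc]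
    dsimp only [Functor.comp_obj]
    rw [Functor.LaxMonoidal.μ_natural_right]
  have : IsIso ((eK.hom ⊗ₘ (DRing.restrictD φ).map eW.hom) ≫ projMap (DTen.baseAdj φ) K W) := by
    rw [e]; infer_instance
  exact IsIso.of_isIso_comp_left (eK.hom ⊗ₘ (DRing.restrictD φ).map eW.hom) _

end Groth.Agent.DTenMon
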